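import Groth.Agent.TorsPrecompLib.Ideal
import Groth.Agent.DerCompLib.AdicFin
import Groth.Agent.DerCompLib.Sections
import Groth.Agent.FComplLib.Vanish
import Groth.Agent.FComplLib.IndQC
import Groth.Agent.RlimCrit.ClBij
import Groth.Agent.RlimCrit.ModVanish

/-!
# Complexes with coherent cohomology are derived complete on a formal scheme
-/

set_option autoImplicit false
set_option linter.style.haveILetI false
set_option linter.unusedVariables false
set_option backward.isDefEq.respectTransparency false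
set_option backward.isDefEq.respectTransparency.types false
set_option maxHeartbeats 4000000

universe u

open CategoryTheory CategoryTheory.Limits AlgebraicGeometry TopologicalSpace Opposite

noncomputable section

attribute [local instance] HasDerivedCategory.standard

namespace Groth.Agent.TorsPrecomp

open Groth.Agent.FCompl Groth.Agent.DerCompLib

section Test

variable {C : Type u} [SmallCategory C] {J : GrothendieckTopology C} (O : Sheaf J CommRingCat.{u})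

/-- An object with no morphisms from the free modules on a generating family of coverings vanishes. -/
theorem isZero_of_test' (B : Set C)
    (hB : ∀ U : C, ∃ S ∈ J U, ∀ ⦃V : C⦄ (g : V ⟶ U), S g → ∃ W ∈ B, ∃ (k : V ⟶ W) (g' : W ⟶ U), k ≫ g' = g)
    (X : DerivedCategory (ModSite.Mod O))
    (h : ∀ V ∈ B, ∀ n : ℤ, Subsingleton (E O V ⟶ X⟦n⟧)) : IsZero X := by
  let P := RlimCrit.modP (ModSite.ringSh O)
  let A := ModSite.Mod O
  have h0 : ∀ V ∈ B, ∀ (q : ℤ) (ξ : RlimCrit.sgl q (P.obj V) ⟶ X), ξ = 0 := by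
    intro V hV q ξ
    haveI := h V hV q
    let e := (DerivedCategory.singleFunctors A).shiftIso q 0 q (add_zero q)
    apply (shiftFunctor (DerivedCategory A) q).map_injective
    rw [← cancel_epi (e.inv.app (P.obj V)),
      ← cancel_epi ((DerivedCategory.singleFunctor A 0).map (modPIso O V).inv)]
    exact Subsingleton.elim (α := E O V ⟶ X⟦q⟧) _ _
  have hP := RlimCrit.isLocGen_mod (ModSite.ringSh O)
  have hH : ∀ q : ℤ, IsZero ((DerivedCategory.homologyFunctor A q).obj X) := fun q => by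
    rw [IsZero.iff_id_eq_zero]
    refine hP.det _ fun U x => ?_
    rw [Category.comp_id]
    obtain ⟨S', hS', hB'⟩ := hB U
    refine hP.sep x S' hS' fun V g hg => ?_
    obtain ⟨W, hW, k, g', rfl⟩ := hB' g hg
    obtain ⟨S, hS, hx⟩ := RlimCrit.exists_local_class hP (P.map g' ≫ x)
    rw [Functor.map_comp, Category.assoc]
    suffices e : P.map g' ≫ x = 0 by rw [e, comp_zero]
    refine hP.sep _ S hS fun V' f hf => ?_
    obtain ⟨S'', hS'', hB''⟩ := hB V'
    refine hP.sep _ S'' hS'' fun V'' g'' hg'' => ?_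
    obtain ⟨W', hW', k', g₁, rfl⟩ := hB'' g'' hg''
    obtain ⟨ξ, hξ⟩ := hx f hf
    rw [Functor.map_comp, Category.assoc, ← hξ, ← RlimCrit.cl_map (P.map g₁) ξ,
      h0 W' hW' q (RlimCrit.sglMap q (P.map g₁) ≫ ξ), RlimCrit.cl_zero, comp_zero]
  haveI : X.IsLE 0 := (DerivedCategory.isLE_iff X 0).2 fun i _ => hH i
  haveI : X.IsGE 1 := (DerivedCategory.isGE_iff X 1).2 fun i _ => hH i
  exact DerivedCategory.TStructure.t.isZero X 0 1 (by norm_num)

theorem compl_of_cplAt' {s : DerComp.GSec O} {K : DerivedCategory (ModSite.Mod O)} (B : Set C)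
    (hB : ∀ U : C, ∃ S ∈ J U, ∀ ⦃V : C⦄ (g : V ⟶ U), S g → ∃ W ∈ B, ∃ (k : V ⟶ W) (g' : W ⟶ U), k ≫ g' = g)
    (h : ∀ V ∈ B, CplAt O V (s.1 V) K) : Compl s K := by
  haveI := hasProducts O
  obtain ⟨L, a, c, hL⟩ := Pretriangulated.distinguished_cocone_triangle₁ (rlimMap s K)
  refine (isZero_rlim_iff hL).1 (isZero_of_test' O B hB L fun V hV n => ?_)
  let D := DerivedCategory (ModSite.Mod O)
  have hX : ∀ m : ℤ, ProEtDCLib.DBij (hs s ((E O V)⟦m⟧) K) := fun m => by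
    let F := shiftFunctor D m
    let ε := (shiftFunctorCompIsoId D (-m) m (neg_add_cancel m)).app K
    have h1 : ProEtDCLib.DBij (hs s (E O V) (K⟦-m⟧)) := by
      rw [show hs s (E O V) (K⟦-m⟧) = act O V (s.1 V) (K⟦-m⟧) from AddMonoidHom.ext fun x => (act_val O s V _ x).symm]
      exact h V hV (-m)
    refine h1.of_bijective ((Preadditive.rightComp (F.obj (E O V)) ε.hom).comp F.mapAddHom)
      (ε.homToEquiv.bijective.comp ⟨F.map_injective, F.map_surjective⟩) fun x => ?_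
    show F.map (s • x) ≫ ε.hom = s • (F.map x ≫ ε.hom)
    rw [F.map_smul, Linear.smul_comp]
  haveI : Subsingleton ((E O V)⟦-n⟧ ⟶ L) :=
    subsingleton_hom_rlim hL (hX (-n))
      (((dBij_iff_precomp_iso s K ((shiftFunctorAdd' D (-n) 1 (-n + 1) rfl).app (E O V))).1 (hX (-n + 1))))
  refine ⟨fun u v => (shiftFunctor D (-n)).map_injective ?_⟩
  rw [← cancel_mono ((shiftFunctorCompIsoId D n (-n) (add_neg_cancel n)).hom.app L)]
  exact Subsingleton.elim (α := (E O V)⟦-n⟧ ⟶ L) _ _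

end Test

variable {𝔛 : FSch.Sys.{u}} {h : 𝔛.IsFormal}

/-- Coherent modules have no higher extensions out of free modules on affine opens. -/
theorem subsingleton_ext_coh [HasExt.{u} (FSch.ModF 𝔛 h)] (hL : 𝔛.IsLocNoethFormal) {M : FSch.ModF 𝔛 h}
    (hM : FSch.IsCohF 𝔛 h M) {U : (𝔛.X 0).Opens} (hU : IsAffineOpen U) (k : ℕ) (hk : 0 < k) :
    Subsingleton (Abelian.Ext.{u} ((RlimCrit.modP (ModSite.ringSh (𝔛.Osh h))).obj U) M k) := by
  obtain ⟨k, rfl⟩ : ∃ k', k = k' + 1 := ⟨k - 1, by omega⟩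
  exact RlimCrit.subsingleton_ext_mod (ModSite.ringSh (𝔛.Osh h)) U M (k + 1)
    (subsingleton_HU_of_affQC hL (affQC_of_coh hL hM) hU k)

/-- Sections of coherent modules over affine opens are finite. -/
theorem finite_sect (hL : 𝔛.IsLocNoethFormal) {M : FSch.ModF 𝔛 h} (hM : FSch.IsCohF 𝔛 h M)
    {U : (𝔛.X 0).Opens} (hU : IsAffineOpen U) : Module.Finite (OR 𝔛 h U) (M.val.obj (op U)) := by
  classical
  obtain ⟨I, K, hI, hK, s, c, hs, -, -⟩ := hasRels_affine hL hM hU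
  refine ⟨⟨Finset.univ.image s, eq_top_iff.2 fun m _ => ?_⟩⟩
  obtain ⟨a, rfl⟩ := exists_eq_sum_gen hL hM hU s hs m
  exact Submodule.sum_mem _ fun i _ => Submodule.smul_mem _ _ (Submodule.subset_span (by simp))

/-- Multiplication by a section of the ideal on the sections of a coherent module. -/
theorem dBij_preEnd_coh (hL : 𝔛.IsLocNoethFormal) {M : FSch.ModF 𝔛 h} (hM : FSch.IsCohF 𝔛 h M)
    {U : (𝔛.X 0).Opens} (hU : IsAffineOpen U) {f : OR 𝔛 h U} (hf : f ∈ II 𝔛 h U) :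
    ProEtDCLib.DBij (Preadditive.leftComp M (endF (𝔛.Osh h) U f) :
      (ModSite.freeOn (𝔛.Osh h) U ⟶ M) →+ _) := by
  haveI := complete (h := h) hL hU
  haveI := noetherian (h := h) hL hU
  haveI := finite_sect hL hM hU
  let e := SiteBase.FreeOn.freeOnEquiv (𝔛.Osh h) U M
  let g₀ := SiteBase.FreeOn.freeOnEquiv (𝔛.Osh h) U (ModSite.freeOn (𝔛.Osh h) U) (𝟙 _)
  have hc : ∀ z, e z = (z.val.app (op U)).hom g₀ := fun z => by
    conv_lhs => rw [← Category.id_comp z]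
    exact SiteBase.FreeOn.freeOnEquiv_comp (𝔛.Osh h) U (𝟙 _) z
  have hadd : ∀ x y, e (x + y) = e x + e y := fun x y => by
    rw [hc, hc, hc]
    rfl
  refine (dBij_of_finite (II 𝔛 h U) hf (M.val.obj (op U))).of_bijective'
    (AddMonoidHom.mk' e hadd) e.bijective fun x => ?_
  exact freeOnEquiv_extZero_smulEnd (𝔛.Osh h) U f x

open RlimCrit in
/-- Morphisms from a free module on an affine open compute sections of cohomology. -/
theorem cl_bijective_coh (hL : 𝔛.IsLocNoethFormal) (X : DerivedCategory (FSch.ModF 𝔛 h))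
    (hX : ∀ i, FSch.IsCohF 𝔛 h (SiteCmp.HMod X i)) {U : (𝔛.X 0).Opens} (hU : IsAffineOpen U) :
    Function.Bijective (cl : (sgl 0 ((modP (ModSite.ringSh (𝔛.Osh h))).obj U) ⟶ X) → _) := by
  haveI : IsGrothendieckAbelian.{u} (FSch.ModF 𝔛 h) := ModTensor.isGrothendieckAbelian_mod (𝔛.Osh h)
  haveI := hasProducts (𝔛.Osh h)
  refine cl_bijective.{u} _ 0 X (isRlimVia_truncTower (isLocGen_mod (ModSite.ringSh (𝔛.Osh h)))
    {V | IsAffineOpen V} (fun W => ?_) X fun q W hW T hT => ?_) fun i k hk => subsingleton_ext_coh hL (hX i) hU k hk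
  · refine ⟨{A : (𝔛.X 0).Opens // IsAffineOpen A ∧ A ≤ W}, fun A => A.1, fun A => homOfLE A.2.2,
      fun x hx => ?_, fun A => A.2.1⟩
    obtain ⟨A, hA, hxA, hAW⟩ := exists_affine_le (𝔛 := 𝔛) (U := W) hx
    exact ⟨A, homOfLE hAW, Sieve.ofArrows_mk (fun A : {A : (𝔛.X 0).Opens // IsAffineOpen A ∧ A ≤ W} => A.1)
      (fun A => homOfLE A.2.2) ⟨A, hA, hAW⟩, hxA⟩
  · let N := (-q).toNat
    refine ⟨{A : (𝔛.X 0).Opens // ∃ hA : A ≤ W, IsAffineOpen A ∧ (T N).arrows (homOfLE hA)}, fun A => A.1,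
      fun A => homOfLE A.2.1, fun x hx => ?_, fun A => ⟨N, A.2.2.2, fun n hn k hk => ?_⟩⟩
    · obtain ⟨Z, l, hl, hxZ⟩ := hT N x hx
      obtain ⟨A, hA, hxA, hAZ⟩ := exists_affine_le (𝔛 := 𝔛) (U := Z) hxZ
      have hAW : A ≤ W := hAZ.trans (leOfHom l)
      have hTA : (T N).arrows (homOfLE hAW) := (T N).downward_closed hl (homOfLE hAZ)
      exact ⟨A, homOfLE hAW, Sieve.ofArrows_mk
        (fun A : {A : (𝔛.X 0).Opens // ∃ hA : A ≤ W, IsAffineOpen A ∧ (T N).arrows (homOfLE hA)} => A.1)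
        (fun A => homOfLE A.2.1) ⟨A, hAW, hA, hTA⟩, hxA⟩
    · exact subsingleton_ext_coh hL (hX _) A.2.2.1 k (by omega)

/-- Complexes with coherent cohomology are complete at the sections of the ideal on affine opens. -/
theorem cplAt_coh (hL : 𝔛.IsLocNoethFormal) (F : DerivedCategory (FSch.ModF 𝔛 h))
    (hF : ∀ i, FSch.IsCohF 𝔛 h (SiteCmp.HMod F i)) {U : (𝔛.X 0).Opens} (hU : IsAffineOpen U)
    {f : OR 𝔛 h U} (hf : f ∈ II 𝔛 h U) : CplAt (𝔛.Osh h) U f F := by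
  intro n
  let X := (F⟦n⟧)
  have hX : ∀ i, FSch.IsCohF 𝔛 h (SiteCmp.HMod X i) := fun i =>
    (SheafOfModules.isFinitePresentation (ModSite.ringSh (𝔛.Osh h))).prop_of_iso
      (((DerivedCategory.homologyFunctor (FSch.ModF 𝔛 h) 0).shiftIso n i (n + i) rfl).app F).symm (hF _)
  let p := modPIso (𝔛.Osh h) U
  have hcl := cl_bijective_coh hL X hX hU
  let g : (E (𝔛.Osh h) U ⟶ X) →+ (ModSite.freeOn (𝔛.Osh h) U ⟶ SiteCmp.HMod X 0) :=
    AddMonoidHom.mk' (fun x => p.inv ≫ RlimCrit.cl (RlimCrit.sglMap 0 p.hom ≫ x)) fun x y => by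
      rw [Preadditive.comp_add, ← sub_neg_eq_add, RlimCrit.cl_sub,
        show RlimCrit.cl (-(RlimCrit.sglMap 0 p.hom ≫ y)) = -RlimCrit.cl (RlimCrit.sglMap 0 p.hom ≫ y) from by
          rw [← zero_sub, RlimCrit.cl_sub, RlimCrit.cl_zero, zero_sub],
        sub_neg_eq_add, Preadditive.comp_add]
  have hg : Function.Bijective g := by
    constructor
    · intro x y hxy
      have h1 := hcl.1 ((cancel_epi p.inv).1 hxy)
      exact (cancel_epi (RlimCrit.sglMap 0 p.hom)).1 h1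
    · intro z
      obtain ⟨ξ, hξ⟩ := hcl.2 (p.hom ≫ z)
      refine ⟨RlimCrit.sglMap 0 p.inv ≫ ξ, ?_⟩
      show p.inv ≫ RlimCrit.cl (RlimCrit.sglMap 0 p.hom ≫ RlimCrit.sglMap 0 p.inv ≫ ξ) = z
      rw [RlimCrit.cl_map, RlimCrit.cl_map, hξ, ← Category.assoc p.hom, p.hom_inv_id, Category.id_comp,
        Iso.inv_hom_id_assoc]
  refine (dBij_preEnd_coh hL (hX 0) hU hf).of_bijective' g hg fun x => ?_
  show p.inv ≫ RlimCrit.cl (RlimCrit.sglMap 0 p.hom ≫ RlimCrit.sglMap 0 (endF (𝔛.Osh h) U f) ≫ x) =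
    endF (𝔛.Osh h) U f ≫ p.inv ≫ RlimCrit.cl (RlimCrit.sglMap 0 p.hom ≫ x)
  rw [RlimCrit.cl_map, RlimCrit.cl_map, RlimCrit.cl_map, Iso.inv_hom_id_assoc, Iso.inv_hom_id_assoc]

/-- Complexes with coherent cohomology are derived complete. -/
theorem isDerComp_coh (hL : 𝔛.IsLocNoethFormal) (F : DerivedCategory (FSch.ModF 𝔛 h))
    (hF : ∀ i, FSch.IsCohF 𝔛 h (SiteCmp.HMod F i)) : DerComp.IsDerComp (𝔛.Osh h) (idl 𝔛 h) F := by
  refine (isDerComp_iff (O := 𝔛.Osh h) _ F).2 fun U f hf => ?_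
  have hc : Compl (DerComp.GSec.ofSect (𝔛.Osh h) U f)
      ((ModSite.restr (𝔛.Osh h) U).mapDerivedCategory.obj F) := by
    refine compl_of_cplAt' _ {W : Over U | IsAffineOpen W.left} (fun W => ?_) fun W hW => ?_
    · refine ⟨{ arrows := fun Z _ => ∃ A : (𝔛.X 0).Opens, IsAffineOpen A ∧ Z.left ≤ A ∧ A ≤ W.left
                downward_closed := ?_ }, ?_, ?_⟩
      · rintro Z Z' g ⟨A, hA, h₁, h₂⟩ g'
        exact ⟨A, hA, (leOfHom g'.left).trans h₁, h₂⟩
      · refine (GrothendieckTopology.mem_over_iff _ _).2 fun x hx => ?_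
        obtain ⟨A, hA, hxA, hAW⟩ := exists_affine_le (𝔛 := 𝔛) (U := W.left) hx
        exact ⟨A, homOfLE hAW, (Sieve.overEquiv_iff _ _).2 ⟨A, hA, le_rfl, hAW⟩, hxA⟩
      · rintro Z g ⟨A, hA, hZA, hAW⟩
        exact ⟨Over.mk (homOfLE (hAW.trans (leOfHom W.hom))), hA, Over.homMk (homOfLE hZA),
          Over.homMk (homOfLE hAW), Over.OverMorphism.ext (Subsingleton.elim _ _)⟩
    · exact (cplAt_restr_iff (𝔛.Osh h) U f F W).2
        (cplAt_coh hL F hF hW ((idl 𝔛 h).map_mem W.hom hf))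
  have h1 := (cplAt_restr_iff (𝔛.Osh h) U f F (Over.mk (𝟙 U))).1 (hc.cplAt (Over.mk (𝟙 U)))
  change CplAt (𝔛.Osh h) U (((𝔛.Osh h).obj.map (𝟙 U).op).hom f) F at h1
  rwa [op_id, (𝔛.Osh h).obj.map_id] at h1

end Groth.Agent.TorsPrecomp
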