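import Groth.Agent.TorsPrecompLib.Ideal
import Groth.Agent.TorsInjLib.Idem
import Groth.Agent.TildeD.Homology
import Groth.Agent.S13483
import Groth.Agent.DerCompLib.Nilp

/-!
# The cone of `RΓ' E ⟶ E` is left orthogonal to the derived complete objects
-/

set_option autoImplicit false
set_option linter.style.haveILetI false
set_option linter.unusedVariables false
set_option backward.isDefEq.respectTransparency false
set_option backward.isDefEq.respectTransparency.types false
set_option maxHeartbeats 4000000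

universe u

open CategoryTheory CategoryTheory.Limits CategoryTheory.Pretriangulated AlgebraicGeometry TopologicalSpace Opposite

noncomputable section

attribute [local instance] HasDerivedCategory.standard

namespace Groth.Agent.TorsPrecomp

open Groth.Agent.FCompl

/-- A scalar killing an object of the derived category kills its cohomology. -/
theorem hsmul_eq_zero {A : Type*} [Category A] [Abelian A] {R : Type*} [Ring R] [Linear R A]
    [HasDerivedCategory A] (r : R) (Y : DerivedCategory A) (hY : r • 𝟙 Y = 0) (n : ℤ) :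
    r • 𝟙 ((DerivedCategory.homologyFunctor A n).obj Y) = 0 := by
  let H := DerivedCategory.homologyFunctor A n
  let K := DerivedCategory.Q.objPreimage Y
  let e : DerivedCategory.Q.obj K ≅ Y := DerivedCategory.Q.objObjPreimageIso Y
  have h1 : DerivedCategory.Q.map (r • 𝟙 K) = 0 := by
    rw [Functor.map_smul, CategoryTheory.Functor.map_id, ← cancel_mono e.hom, zero_comp, Linear.smul_comp,
      Category.id_comp, ← Category.comp_id e.hom, ← Linear.comp_smul, hY, comp_zero]
  have h2 : r • 𝟙 ((HomologicalComplex.homologyFunctor A (ComplexShape.up ℤ) n).obj K) = 0 := by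
    have h3 : HomologicalComplex.homologyMap (r • 𝟙 K) n = 0 := by
      have h4 := (DerivedCategory.homologyFunctorFactors A n).hom.naturality (r • 𝟙 K)
      dsimp only [Functor.comp_map] at h4
      rw [h1, Functor.map_zero, zero_comp] at h4
      rw [← cancel_epi ((DerivedCategory.homologyFunctorFactors A n).hom.app K), comp_zero]
      exact h4.symm
    rw [← h3, HomologicalComplex.homologyMap,
      show (HomologicalComplex.shortComplexFunctor A (ComplexShape.up ℤ) n).map (r • 𝟙 K) =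
        r • 𝟙 (K.sc n) by ext <;> rfl,
      ShortComplex.homologyMap_smul, ShortComplex.homologyMap_id]
    rfl
  let ε := H.mapIso e.symm ≪≫ (DerivedCategory.homologyFunctorFactors A n).app K
  rw [← cancel_mono ε.hom, zero_comp, Linear.smul_comp, Category.id_comp, ← Category.comp_id ε.hom,
    ← Linear.comp_smul, h2, comp_zero]

variable {𝔛 : FSch.Sys.{u}} {h : 𝔛.IsFormal}

/-- Extension by zero of a module killed by powers of generators of the ideal is torsion. -/
theorem isT_extZero (hL : 𝔛.IsLocNoethFormal) {V A : (𝔛.X 0).Opens} (hA : IsAffineOpen A) (hVA : V ≤ A) {r : ℕ}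
    (a : Fin r → OR 𝔛 h A) (ha : Ideal.span (Set.range a) = II 𝔛 h A)
    (N : ModSite.Mod ((𝔛.Osh h).over V)) (k : ℕ)
    (hN : ∀ i, DerComp.GSec.ofSect (𝔛.Osh h) V (rsO 𝔛 h hVA (a i)) ^ k • 𝟙 N = 0) :
    IsT ((ModSite.extZero (𝔛.Osh h) V).obj N) := by
  classical
  let O := 𝔛.Osh h
  let M : FSch.ModF 𝔛 h := (ModSite.extZero O V).obj N
  let ι : (FTors.gammaT 𝔛 h).obj M ⟶ M := (FTors.gammaTι 𝔛 h).app M
  let η : N ⟶ (ModSite.restr O V).obj M := (ModSite.extZeroAdj O V).unit.app N
  have hq : cokernel.π ι = 0 := by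
    apply ((ModSite.extZeroAdj O V).homEquiv _ _).injective
    rw [Adjunction.homEquiv_unit, Adjunction.homEquiv_unit, Functor.map_zero, comp_zero]
    refine SheafOfModules.hom_ext (PresheafOfModules.hom_ext fun W => ?_)
    refine ModuleCat.hom_ext (LinearMap.ext fun x => ?_)
    have hW : W.unop.left ≤ V := leOfHom W.unop.hom
    let y : M.val.obj (op W.unop.left) := (η.val.app W).hom x
    have hy : ∀ i, rsO 𝔛 h (hW.trans hVA) (a i) ^ k • y = 0 := fun i => by
      rw [← TorsInj.rsO_comp hW hVA]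
      have h1 := congrArg (fun φ : N ⟶ N => (η.val.app W).hom ((φ.val.app W).hom x)) (hN i)
      refine Eq.trans ?_ (h1.trans (map_zero _))
      refine Eq.trans ?_ ((η.val.app W).hom.map_smul _ x).symm
      rfl
    have hK : TorsInj.Kill (Finset.univ.image a) (hW.trans hVA) y := ⟨k, fun b hb => by
      obtain ⟨i, -, rfl⟩ := Finset.mem_image.1 hb
      exact hy i⟩
    have hT : FTors.IsTorsSect (FTors.openIdealFam 𝔛 h) M y := by
      refine (isTorsSect_iff y).2 (FPLocal.locally_of_near (fun Z Y l q hn => ?_) fun x' hx' => ?_)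
      · obtain ⟨n, hn⟩ := hn
        refine ⟨n, ?_⟩
        rw [FPLocal.mres_comp']
        exact hn.res l
      · obtain ⟨Z, hZ, hxZ, hZW⟩ := exists_affine_le (𝔛 := 𝔛) (U := W.unop.left) hx'
        exact ⟨Z, homOfLE hZW, hxZ,
          TorsInj.kb_of_kill hL hA hZ (by simpa using ha) (hK.res hZW)⟩
    have e := congrArg (fun φ : (FTors.gammaT 𝔛 h).obj M ⟶ cokernel ι =>
      (φ.val.app (op W.unop.left)).hom (⟨y, hT⟩ : ((FTors.gammaT 𝔛 h).obj M).val.obj (op W.unop.left)))
      (cokernel.condition ι)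
    exact e
  haveI : Epi ι := Preadditive.epi_of_cokernel_zero hq
  exact isT_of_epi ι (isT_gammaT M)

open DerCompLib in
/-- An object receiving only zero morphisms from torsion objects is left orthogonal on affine opens. -/
theorem leftOrth_of_tors (hL : 𝔛.IsLocNoethFormal) (X : DerivedCategory (FSch.ModF 𝔛 h))
    (hX : ∀ Y, FTors.IsDTorsF 𝔛 h Y → ∀ u : Y ⟶ X, u = 0) :
    LeftOrth (𝔛.Osh h) (idl 𝔛 h) X := by
  classical
  haveI := S13483.result (𝔛.Osh h) (idl 𝔛 h) (isFiniteType_idl hL)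
  refine leftOrth_of_local (𝔛.Osh h) {V | ∃ A : (𝔛.X 0).Opens, IsAffineOpen A ∧ V ≤ A} (fun U => ?_) X fun V hV => ?_
  · refine ⟨{ arrows := fun Z _ => ∃ A : (𝔛.X 0).Opens, IsAffineOpen A ∧ Z ≤ A ∧ A ≤ U
              downward_closed := ?_ }, ?_, ?_⟩
    · rintro Z Z' g ⟨A, hA, h₁, h₂⟩ g'
      exact ⟨A, hA, (leOfHom g').trans h₁, h₂⟩
    · intro x hx
      obtain ⟨A, hA, hxA, hAU⟩ := exists_affine_le (𝔛 := 𝔛) (U := U) hx
      exact ⟨A, homOfLE hAU, ⟨A, hA, le_rfl, hAU⟩, hxA⟩
    · rintro Z g ⟨A, hA, hZA, -⟩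
      exact ⟨A, hA, hZA⟩
  · obtain ⟨A, hA, hVA⟩ := hV
    obtain ⟨r, a₀, ha⟩ := exists_gens (h := h) hL hA
    let a : Fin r → OR 𝔛 h V := fun i => rsO 𝔛 h hVA (a₀ i)
    refine ⟨r, a, isGenBy_idl_le hL hA hVA a₀ ha, lOrth_iff_nilp.2 fun Y hY u => ?_⟩
    obtain ⟨D⟩ := OpenRestrH.nonempty_derived_adjunction (ModSite.extZeroAdj (𝔛.Osh h) V)
    have hY' : ∀ i, ∃ k, DerComp.GSec.ofSect (𝔛.Osh h) V (a i) ^ k • 𝟙 Y = 0 := fun i =>
      hY _ (List.mem_ofFn.2 ⟨i, rfl⟩)
    choose k hk using hY'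
    have hk' : ∀ i, DerComp.GSec.ofSect (𝔛.Osh h) V (a i) ^ (Finset.univ.sup k) • 𝟙 Y = 0 := fun i => by
      rw [← Nat.sub_add_cancel (Finset.le_sup (f := k) (Finset.mem_univ i)), pow_add, mul_smul, hk i, smul_zero]
    have hT : FTors.IsDTorsF 𝔛 h ((ModSite.extZero (𝔛.Osh h) V).mapDerivedCategory.obj Y) := fun q =>
      isT_of_iso ((TildeD.nu (ModSite.extZero (𝔛.Osh h) V) q).app Y).symm
        (isT_extZero hL hA hVA a₀ ha _ _ fun i => hsmul_eq_zero _ Y (hk' i) q)
    apply (D.homEquiv _ _).symm.injective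
    exact (hX _ hT _).trans (hX _ hT _).symm

end Groth.Agent.TorsPrecomp
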