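import Groth.Agent.TorsInjLib.Divide
import Groth.Agent.DerCompLib.RestrOrth

/-!
# The ideal sheaf of the smallest level of a formal scheme
-/

set_option autoImplicit false
set_option linter.style.haveILetI false
set_option linter.unusedVariables false
set_option backward.isDefEq.respectTransparency false
set_option backward.isDefEq.respectTransparency.types false
set_option maxHeartbeats 2000000

universe u

open CategoryTheory CategoryTheory.Limits AlgebraicGeometry TopologicalSpace Opposite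

noncomputable section

namespace Groth.Agent.TorsPrecomp

open Groth.Agent.FCompl

variable (𝔛 : FSch.Sys.{u}) (h : 𝔛.IsFormal)

theorem rsO_eq {U V : (𝔛.X 0).Opens} (g : V ⟶ U) (f : OR 𝔛 h U) :
    ((𝔛.Osh h).obj.map g.op).hom f = rsO 𝔛 h (leOfHom g) f := rfl

/-- The ideal of definition as a sheaf of ideals. -/
def idl : DerComp.IdealSh (𝔛.Osh h) where
  ideal U := II 𝔛 h U
  map_mem {U V} g f hf := by
    rw [rsO_eq 𝔛 h g f]
    exact RingHom.mem_ker.2 (by rw [pr_rsO, show pr 𝔛 h U 0 f = 0 from hf, map_zero])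
  glue {U f} S hS H := by
    refine RingHom.mem_ker.2 ?_
    refine Sheaf.isSeparated (𝔛.levelObj h 0) U S hS _ 0 fun V g hg => ?_
    rw [map_zero]
    exact ((ConcreteCategory.congr_hom ((𝔛.OshProj h 0).hom.naturality g.op) f).symm.trans (H g hg))

theorem mem_idl_iff {U : (𝔛.X 0).Opens} (f : OR 𝔛 h U) : f ∈ (idl 𝔛 h).ideal U ↔ f ∈ II 𝔛 h U := Iff.rfl

variable {𝔛 h}

/-- Over an affine open the ideal is generated by generators of the ideal of sections. -/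
theorem isGenBy_idl_le (hL : 𝔛.IsLocNoethFormal) {V Z₀ : (𝔛.X 0).Opens} (hV : IsAffineOpen V) (hZV : Z₀ ≤ V) {r : ℕ}
    (a : Fin r → OR 𝔛 h V) (ha : Ideal.span (Set.range a) = II 𝔛 h V) :
    ((idl 𝔛 h).over Z₀).IsGenBy fun i => DerComp.GSec.ofSect (𝔛.Osh h) Z₀ (rsO 𝔛 h hZV (a i)) := by
  constructor
  · intro i W
    exact (idl 𝔛 h).map_mem W.hom ((idl 𝔛 h).map_mem (homOfLE hZV)
      ((mem_idl_iff 𝔛 h (a i)).2 (ha ▸ Ideal.subset_span ⟨i, rfl⟩)))
  · intro I' hI' W f hf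
    let S : Sieve W :=
      { arrows := fun Z _ => ∃ A : (𝔛.X 0).Opens, IsAffineOpen A ∧ Z.left ≤ A ∧ A ≤ W.left
        downward_closed := by
          rintro Z Z' g ⟨A, hA, h₁, h₂⟩ g'
          exact ⟨A, hA, (leOfHom g'.left).trans h₁, h₂⟩ }
    refine I'.glue S ?_ ?_
    · refine (GrothendieckTopology.mem_over_iff _ _).2 fun x hx => ?_
      obtain ⟨A, hA, hxA, hAW⟩ := exists_affine_le (𝔛 := 𝔛) (U := W.left) hx
      exact ⟨A, homOfLE hAW, (Sieve.overEquiv_iff S _).2 ⟨A, hA, le_rfl, hAW⟩, hxA⟩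
    · rintro Z g ⟨A, hA, hZA, hAW⟩
      let f₀ : OR 𝔛 h W.left := f
      have hAZ : A ≤ Z₀ := hAW.trans (leOfHom W.hom)
      have hAV : A ≤ V := hAZ.trans hZV
      let WA : Over Z₀ := Over.mk (homOfLE hAZ)
      have h1 : rsO 𝔛 h hAW f₀ ∈ Ideal.span (rsO 𝔛 h hAV '' Set.range a) := by
        rw [← Ideal.map_span, ha, II_map hL hV hA hAV]
        exact (idl 𝔛 h).map_mem (homOfLE hAW) hf
      have h2 : rsO 𝔛 h hAW f₀ ∈ I'.ideal WA := by
        refine (Ideal.span_le.2 ?_) h1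
        rintro _ ⟨_, ⟨i, rfl⟩, rfl⟩
        rw [← TorsInj.rsO_comp hAZ hZV]
        exact hI' i WA
      have h3 := I'.map_mem (Over.homMk (homOfLE hZA) : Z ⟶ WA) h2
      have h4 : rsO 𝔛 h hZA (rsO 𝔛 h hAW f₀) = rsO 𝔛 h (leOfHom g.left) f₀ :=
        TorsInj.rsO_comp hZA hAW f₀
      show rsO 𝔛 h (leOfHom g.left) f₀ ∈ I'.ideal Z
      rw [← h4]
      exact h3

theorem isGenBy_idl (hL : 𝔛.IsLocNoethFormal) {V : (𝔛.X 0).Opens} (hV : IsAffineOpen V) {r : ℕ}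
    (a : Fin r → OR 𝔛 h V) (ha : Ideal.span (Set.range a) = II 𝔛 h V) :
    ((idl 𝔛 h).over V).IsGenBy fun i => DerComp.GSec.ofSect (𝔛.Osh h) V (a i) := by
  have e : ∀ i, rsO 𝔛 h (le_refl V) (a i) = a i := fun i =>
    congrArg (fun φ : (𝔛.Osh h).obj.obj (op V) ⟶ (𝔛.Osh h).obj.obj (op V) => φ.hom (a i))
      ((𝔛.Osh h).obj.map_id (op V))
  simpa only [e] using isGenBy_idl_le hL hV (le_refl V) a ha

theorem exists_gens (hL : 𝔛.IsLocNoethFormal) {V : (𝔛.X 0).Opens} (hV : IsAffineOpen V) :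
    ∃ (r : ℕ) (a : Fin r → OR 𝔛 h V), Ideal.span (Set.range a) = II 𝔛 h V :=
  haveI := noetherian (h := h) hL hV
  Submodule.fg_iff_exists_fin_generating_family.1 (IsNoetherian.noetherian (II 𝔛 h V))

theorem isFiniteType_idl (hL : 𝔛.IsLocNoethFormal) : (idl 𝔛 h).IsFiniteType := by
  intro U
  refine ⟨{ arrows := fun Z _ => ∃ A : (𝔛.X 0).Opens, IsAffineOpen A ∧ Z ≤ A ∧ A ≤ U
            downward_closed := ?_ }, ?_, ?_⟩
  · rintro Z Z' g ⟨A, hA, h₁, h₂⟩ g'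
    exact ⟨A, hA, (leOfHom g').trans h₁, h₂⟩
  · intro x hx
    obtain ⟨A, hA, hxA, hAU⟩ := exists_affine_le (𝔛 := 𝔛) (U := U) hx
    exact ⟨A, homOfLE hAU, ⟨A, hA, le_rfl, hAU⟩, hxA⟩
  · rintro Z g ⟨A, hA, hZA, -⟩
    obtain ⟨r, a, ha⟩ := exists_gens (h := h) hL hA
    refine ⟨r, fun i => rsO 𝔛 h hZA (a i), ?_⟩
    exact isGenBy_idl_le hL hA hZA a ha

end Groth.Agent.TorsPrecomp
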